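import Mathlib

/-!
Counting the cosets fixed by an element, through the double cosets of the subgroup.
-/

set_option autoImplicit false

namespace Cfsg.Agent.Lib.LyCent69

open scoped Pointwise

variable {G : Type*} [Group G] (H : Subgroup G) (t : G)

/-- the cosets `h * s * H` fixed by `t` -/
def fixIn (s : G) : Set (G ⧸ H) :=
  {q | ∃ h ∈ H, q = ((h * s : G) : G ⧸ H) ∧ h⁻¹ * t * h ∈ H ⊓ H.map (MulAut.conj s).toMonoidHom}

theorem mem_map_conj {s x : G} :
    x ∈ H.map (MulAut.conj s).toMonoidHom ↔ s⁻¹ * x * s ∈ H := by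
  rw [Subgroup.mem_map]
  refine ⟨?_, fun h => ⟨s⁻¹ * x * s, h, ?_⟩⟩
  · rintro ⟨y, hy, rfl⟩
    have : s⁻¹ * (MulAut.conj s).toMonoidHom y * s = y := by
      show s⁻¹ * (s * y * s⁻¹) * s = y
      group
    rwa [this]
  · show s * (s⁻¹ * x * s) * s⁻¹ = x
    group

/-- the part of the centraliser inside `H` -/
abbrev centIn : Type _ := {h : H // (h : G) * t = t * h}

variable {ι : Type*} [Fintype ι] (s : ι → G)

theorem card_fixed_le [Finite G] (ht : t ∈ H)
    (cover : ∀ g, ∃ j, ∃ h ∈ H, ∃ k ∈ H, g = h * s j * k) :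
    Nat.card {q : G ⧸ H // t • q = q} ≤ ∑ j, Nat.card ↥(fixIn H t (s j)) := by
  classical
  rw [← Nat.card_sigma]
  have key : ∀ q : {q : G ⧸ H // t • q = q}, ∃ j, (q : G ⧸ H) ∈ fixIn H t (s j) := by
    rintro ⟨q, hq⟩
    induction q using Quotient.inductionOn' with
    | h g =>
      obtain ⟨j, h, hh, k, hk, rfl⟩ := cover g
      have hg : (h * s j * k)⁻¹ * (t * (h * s j * k)) ∈ H :=
        QuotientGroup.eq.1 hq.symm
      refine ⟨j, h, hh, QuotientGroup.eq.2 ?_, Subgroup.mem_inf.2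
        ⟨H.mul_mem (H.mul_mem (H.inv_mem hh) ht) hh, (mem_map_conj H).2 ?_⟩⟩
      · rw [show (h * s j * k)⁻¹ * (h * s j) = k⁻¹ by group]; exact inv_mem hk
      · rw [show (s j)⁻¹ * (h⁻¹ * t * h) * s j
          = k * ((h * s j * k)⁻¹ * (t * (h * s j * k))) * k⁻¹ by group]
        exact mul_mem (mul_mem hk hg) (inv_mem hk)
  choose jf hjf using key
  refine Nat.card_le_card_of_injective (fun q => (⟨jf q, ⟨(q : G ⧸ H), hjf q⟩⟩ :
    (j : ι) × ↥(fixIn H t (s j)))) ?_
  intro a b hab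
  have := congrArg (fun x : (j : ι) × ↥(fixIn H t (s j)) => (x.2 : G ⧸ H)) hab
  exact Subtype.ext this

theorem card_centralizer_le [Finite G] (ht : t ∈ H) :
    Nat.card ↥(Subgroup.centralizer {t}) ≤
      Nat.card {q : G ⧸ H // t • q = q} * Nat.card (centIn H t) := by
  classical
  set C := Subgroup.centralizer {t} with hCdef
  have hC : ∀ c ∈ C, t * c = c * t := fun c hc => (Subgroup.mem_centralizer_singleton_iff.1 hc).symm
  rw [Subgroup.card_eq_card_quotient_mul_card_subgroup (H.subgroupOf C)]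
  have hfix : ∀ c : C, t • ((c : G) : G ⧸ H) = ((c : G) : G ⧸ H) := by
    intro c
    show ((t * c : G) : G ⧸ H) = _
    rw [hC c c.2, QuotientGroup.mk_mul_of_mem _ ht]
  refine Nat.mul_le_mul ?_ ?_
  · refine Nat.card_le_card_of_injective
      (fun q : C ⧸ H.subgroupOf C => Quotient.liftOn' q
        (fun c => (⟨((c : G) : G ⧸ H), hfix c⟩ : {q : G ⧸ H // t • q = q}))
        (fun a b hab => Subtype.ext (QuotientGroup.eq.2
          (QuotientGroup.leftRel_apply.1 hab :)))) ?_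
    intro a b
    induction a using Quotient.inductionOn' with
    | h a =>
      induction b using Quotient.inductionOn' with
      | h b =>
        intro hab
        exact QuotientGroup.eq.2 (QuotientGroup.eq.1 (congrArg Subtype.val hab) :)
  · refine Nat.card_le_card_of_injective
      (fun x : H.subgroupOf C => (⟨⟨((x : C) : G), x.2⟩, (hC _ (x : C).2).symm⟩ : centIn H t)) ?_
    intro a b hab
    exact Subtype.ext (Subtype.ext (congrArg (fun z : centIn H t => ((z : H) : G)) hab))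

/-- a double coset meeting in the subgroup itself holds one fixed coset -/
theorem card_fixIn_one [Finite G] {s₀ : G} (hs : s₀ ∈ H) : Nat.card ↥(fixIn H t s₀) ≤ 1 := by
  refine Finite.card_le_one_iff_subsingleton.2 ⟨fun a b => Subtype.ext ?_⟩
  obtain ⟨h, hh, ha, -⟩ := a.2
  obtain ⟨h', hh', hb, -⟩ := b.2
  rw [ha, hb]
  exact QuotientGroup.eq.2 (mul_mem (inv_mem (mul_mem hh hs)) (mul_mem hh' hs))

theorem coset_eq_of_mem {s₀ h k : G} (hk : k ∈ H ⊓ H.map (MulAut.conj s₀).toMonoidHom) :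
    ((h * k * s₀ : G) : G ⧸ H) = ((h * s₀ : G) : G ⧸ H) := by
  refine QuotientGroup.eq.2 ?_
  rw [show (h * k * s₀)⁻¹ * (h * s₀) = (s₀⁻¹ * k * s₀)⁻¹ by group]
  exact inv_mem ((mem_map_conj H).1 hk.2)

/-- bound by the solutions of `x * x = 1` in the stabiliser -/
theorem card_fixIn_le_sq [Finite G] (ht2 : t * t = 1) (ht1 : t ≠ 1) {s₀ : G}
    {K : Subgroup G} (hK : K = H ⊓ H.map (MulAut.conj s₀).toMonoidHom) {m : ℕ}
    (hm : Nat.card {x : K // x * x = 1} ≤ m + 1) :
    Nat.card ↥(fixIn H t s₀) * Nat.card K ≤ m * Nat.card (centIn H t) := by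
  classical
  subst hK
  set K := H ⊓ H.map (MulAut.conj s₀).toMonoidHom with hKdef
  let S : Type _ := {h : H // (h : G)⁻¹ * t * h ∈ K}
  have h1 : Nat.card ↥(fixIn H t s₀) * Nat.card K ≤ Nat.card S := by
    rw [← Nat.card_prod]
    choose r hrH hr hrK using fun q : ↥(fixIn H t s₀) => q.2
    refine Nat.card_le_card_of_injective (fun p : ↥(fixIn H t s₀) × K =>
      (⟨⟨r p.1 * p.2, mul_mem (hrH p.1) p.2.2.1⟩, by
        show (r p.1 * (p.2 : G))⁻¹ * t * (r p.1 * p.2) ∈ K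
        rw [show (r p.1 * (p.2 : G))⁻¹ * t * (r p.1 * p.2)
          = (p.2 : G)⁻¹ * ((r p.1)⁻¹ * t * r p.1) * p.2 by group]
        exact mul_mem (mul_mem (inv_mem p.2.2) (hrK p.1)) p.2.2⟩ : S)) ?_
    intro a b hab
    have e : r a.1 * (a.2 : G) = r b.1 * b.2 := congrArg (fun z : S => ((z : H) : G)) hab
    have e1 : a.1 = b.1 := Subtype.ext (by
      rw [hr a.1, hr b.1, ← coset_eq_of_mem H (h := r a.1) a.2.2,
        ← coset_eq_of_mem H (h := r b.1) b.2.2, e])
    rw [e1] at e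
    exact Prod.ext e1 (Subtype.ext (mul_left_cancel e))
  let I : Type _ := {x : K // x * x = 1 ∧ x ≠ 1}
  have h2 : Nat.card S ≤ Nat.card I * Nat.card (centIn H t) := by
    rw [← Nat.card_prod]
    let c : S → I := fun h => ⟨⟨(h.1 : G)⁻¹ * t * h.1, h.2⟩, Subtype.ext (by
        show ((h.1 : G)⁻¹ * t * h.1) * ((h.1 : G)⁻¹ * t * h.1) = 1
        rw [show ((h.1 : G)⁻¹ * t * h.1) * ((h.1 : G)⁻¹ * t * h.1)
          = (h.1 : G)⁻¹ * (t * t) * h.1 by group, ht2]
        group), fun e => ht1 (by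
        have e' : (h.1 : G)⁻¹ * t * h.1 = 1 := congrArg Subtype.val e
        rw [show t = (h.1 : G) * ((h.1 : G)⁻¹ * t * h.1) * (h.1 : G)⁻¹ by group, e']
        group)⟩
    choose rc hrc using fun y : {y : I // ∃ h : S, c h = y} => y.2
    have hmem : ∀ h : S, ((h.1 : G) * (rc ⟨c h, h, rfl⟩).1.1⁻¹) * t
        = t * ((h.1 : G) * (rc ⟨c h, h, rfl⟩).1.1⁻¹) := by
      intro h
      have e : ((rc ⟨c h, h, rfl⟩).1 : G)⁻¹ * t * (rc ⟨c h, h, rfl⟩).1 = (h.1 : G)⁻¹ * t * h.1 :=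
        congrArg (fun z : I => ((z : K) : G)) (hrc ⟨c h, h, rfl⟩)
      calc ((h.1 : G) * ((rc ⟨c h, h, rfl⟩).1 : G)⁻¹) * t
          = (h.1 : G) * (((rc ⟨c h, h, rfl⟩).1 : G)⁻¹ * t * (rc ⟨c h, h, rfl⟩).1) *
            ((rc ⟨c h, h, rfl⟩).1 : G)⁻¹ := by group
        _ = t * ((h.1 : G) * ((rc ⟨c h, h, rfl⟩).1 : G)⁻¹) := by rw [e]; group
    refine Nat.card_le_card_of_injective (fun h : S => (c h,
      (⟨⟨(h.1 : G) * ((rc ⟨c h, h, rfl⟩).1 : G)⁻¹,
        mul_mem h.1.2 (inv_mem (rc ⟨c h, h, rfl⟩).1.2)⟩, hmem h⟩ : centIn H t))) ?_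
    intro a b hab
    obtain ⟨e1, e2⟩ := Prod.mk.inj hab
    have e3 : (⟨c a, a, rfl⟩ : {y : I // ∃ h : S, c h = y}) = ⟨c b, b, rfl⟩ := Subtype.ext e1
    have e4 := congrArg (fun z : centIn H t => ((z : H) : G)) e2
    simp only at e4
    rw [e3] at e4
    exact Subtype.ext (Subtype.ext (mul_right_cancel e4))
  have h3 : Nat.card I ≤ m := by
    have : Nat.card (Option I) ≤ Nat.card {x : K // x * x = 1} := by
      refine Nat.card_le_card_of_injective
        (fun o => o.elim ⟨1, one_mul 1⟩ fun x => ⟨x.1, x.2.1⟩) ?_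
      rintro (_ | a) (_ | b) hab
      · rfl
      · exact absurd (congrArg Subtype.val hab).symm b.2.2
      · exact absurd (congrArg Subtype.val hab) a.2.2
      · exact congrArg some (Subtype.ext (congrArg Subtype.val hab :))
    rw [Finite.card_option] at this
    omega
  exact h1.trans (h2.trans (Nat.mul_le_mul_right _ h3))

/-- bound by the fixed points in an action with that stabiliser -/
theorem card_fixIn_le_point [Finite G] {s₀ : G} {P : Type*} [Finite P] (f : H → P)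
    (F : Set P) (hF : ∀ h : H,
      (h : G)⁻¹ * t * h ∈ H ⊓ H.map (MulAut.conj s₀).toMonoidHom → f h ∈ F)
    (hf : ∀ h h' : H, f h = f h' → (h : G)⁻¹ * h' ∈ H ⊓ H.map (MulAut.conj s₀).toMonoidHom) :
    Nat.card ↥(fixIn H t s₀) ≤ Nat.card F := by
  choose r hrH hr hrK using fun q : ↥(fixIn H t s₀) => q.2
  refine Nat.card_le_card_of_injective (fun q => (⟨f ⟨r q, hrH q⟩, hF _ (hrK q)⟩ : F)) ?_
  intro a b hab
  have hk := hf _ _ (congrArg Subtype.val hab)
  refine Subtype.ext ?_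
  rw [hr a, hr b, ← coset_eq_of_mem H (h := r a) hk]
  congr 1
  group

end Cfsg.Agent.Lib.LyCent69
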