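import Cfsg.Agent.Lib.LyDC.Tables

/-! The fixed points of `a ^ 4` on the 19530 points. -/

set_option maxRecDepth 100000

namespace Cfsg.Agent.Lib.LyCent69

open Cfsg.Agent.Lib.LyDC

/-- the word `aaaa` -/
def tWord : List Nat := [0x1111]

/-- its fixed points -/
def tFix : List Nat :=
  [0, 1, 2, 3, 4, 12, 13, 21, 27, 28, 29, 30, 31, 43, 49, 50, 51, 52, 53, 59, 60, 61, 63, 68, 69, 70, 71, 85, 86, 87, 88, 101, 102, 103, 104, 201, 211, 239, 283, 400, 426, 430, 431, 439, 442, 443, 444, 445, 446, 923, 928, 929, 1054, 2012, 2582, 2584, 3017, 3018, 3412, 3413, 3426, 4086, 4087, 5656, 5814, 8472]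

/-- every fixed point in a range is listed -/
noncomputable def fixListed (m i : Nat) : Bool :=
  rangeB (fun p => Bool.rec (motive := fun _ => Bool) true (memN p tFix)
    (Nat.beq (tabs.go tWord p) p)) m i

theorem fixListed_all : forallB (fun b => fixListed 1953 (Nat.mul b 1953))
    [0, 1, 2, 3, 4, 5, 6, 7, 8, 9] = true := by decide +kernel

theorem tFix_len : tFix.length = 66 := by decide +kernel

end Cfsg.Agent.Lib.LyCent69
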