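import Cfsg.Agent.Lib.LyCent69.InvData2

/-! Kernel check of one chunk of elements. -/

set_option maxRecDepth 100000

namespace Cfsg.Agent.Lib.LyCent69

open Cfsg.Agent.Lib.LyDC

theorem inv2E0_ok : forallB (elOK inv2G) inv2E0 = true := by decide +kernel

end Cfsg.Agent.Lib.LyCent69
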