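import Cfsg.Agent.Lib.LyCent69.InvSound
import Cfsg.Agent.Lib.LyCent69.InvCheck2_0
import Cfsg.Agent.Lib.LyCent69.InvCheck2_1
import Cfsg.Agent.Lib.LyCent69.InvCheck2_2
import Cfsg.Agent.Lib.LyCent69.InvCheck2_3
import Cfsg.Agent.Lib.LyCent69.InvCheck2_4
import Cfsg.Agent.Lib.LyCent69.InvCheck2_5
import Cfsg.Agent.Lib.LyCent69.InvCheck2_6
import Cfsg.Agent.Lib.LyCent69.InvCheck2_7
import Cfsg.Agent.Lib.LyCent69.InvCheck2_8
import Cfsg.Agent.Lib.LyCent69.InvCheck3_0
import Cfsg.Agent.Lib.LyCent69.InvCheck3_1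
import Cfsg.Agent.Lib.LyCent69.InvCheck3_2
import Cfsg.Agent.Lib.LyCent69.InvCheck3_3
import Cfsg.Agent.Lib.LyCent69.InvCheck4_0
import Cfsg.Agent.Lib.LyCent69.InvCheck4_1

/-! Numbers of solutions of `x * x = 1` in the three small suborbit stabilisers. -/

set_option autoImplicit false
set_option maxRecDepth 100000

namespace Cfsg.Agent.Lib.LyCent69

open Cfsg.Agent.Lib.LyDC

theorem inv2E_len : inv2E.length = 6048 := by decide +kernel

theorem inv2E_inc : incK inv2E 0 = true := by decide +kernel

theorem inv2E_marks : nMark inv2E = 64 := by decide +kernel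

theorem inv2_le {Q : Type*} [Group Q] (R : Rep tabs Q) (K : Subgroup Q) [Finite K]
    (hG : ∀ g ∈ inv2G, R.ev g ∈ K) (hK : Nat.card K ≤ 6048) :
    Nat.card {x : K // x * x = 1} ≤ 64 := by
  have hok : ∀ e ∈ inv2E, elOK inv2G e = true := by
    intro e he
    simp only [inv2E, List.mem_append] at he
    rcases he with ((((((((he | he) | he) | he) | he) | he) | he) | he) | he)
    · exact forallB_iff.1 inv2E0_ok e he
    · exact forallB_iff.1 inv2E1_ok e he
    · exact forallB_iff.1 inv2E2_ok e he
    · exact forallB_iff.1 inv2E3_ok e he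
    · exact forallB_iff.1 inv2E4_ok e he
    · exact forallB_iff.1 inv2E5_ok e he
    · exact forallB_iff.1 inv2E6_ok e he
    · exact forallB_iff.1 inv2E7_ok e he
    · exact forallB_iff.1 inv2E8_ok e he
  rw [← inv2E_marks]
  exact card_sq_one_le R K hG (by decide) hok inv2E_inc (inv2E_len ▸ hK)

theorem inv3E_len : inv3E.length = 2880 := by decide +kernel

theorem inv3E_inc : incK inv3E 0 = true := by decide +kernel

theorem inv3E_marks : nMark inv3E = 212 := by decide +kernel

theorem inv3_le {Q : Type*} [Group Q] (R : Rep tabs Q) (K : Subgroup Q) [Finite K]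
    (hG : ∀ g ∈ inv3G, R.ev g ∈ K) (hK : Nat.card K ≤ 2880) :
    Nat.card {x : K // x * x = 1} ≤ 212 := by
  have hok : ∀ e ∈ inv3E, elOK inv3G e = true := by
    intro e he
    simp only [inv3E, List.mem_append] at he
    rcases he with (((he | he) | he) | he)
    · exact forallB_iff.1 inv3E0_ok e he
    · exact forallB_iff.1 inv3E1_ok e he
    · exact forallB_iff.1 inv3E2_ok e he
    · exact forallB_iff.1 inv3E3_ok e he
  rw [← inv3E_marks]
  exact card_sq_one_le R K hG (by decide) hok inv3E_inc (inv3E_len ▸ hK)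

theorem inv4E_len : inv4E.length = 1008 := by decide +kernel

theorem inv4E_inc : incK inv4E 0 = true := by decide +kernel

theorem inv4E_marks : nMark inv4E = 106 := by decide +kernel

theorem inv4_le {Q : Type*} [Group Q] (R : Rep tabs Q) (K : Subgroup Q) [Finite K]
    (hG : ∀ g ∈ inv4G, R.ev g ∈ K) (hK : Nat.card K ≤ 1008) :
    Nat.card {x : K // x * x = 1} ≤ 106 := by
  have hok : ∀ e ∈ inv4E, elOK inv4G e = true := by
    intro e he
    simp only [inv4E, List.mem_append] at he
    rcases he with (he | he)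
    · exact forallB_iff.1 inv4E0_ok e he
    · exact forallB_iff.1 inv4E1_ok e he
  rw [← inv4E_marks]
  exact card_sq_one_le R K hG (by decide) hok inv4E_inc (inv4E_len ▸ hK)

end Cfsg.Agent.Lib.LyCent69
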