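import Mathlib
import Cfsg.Agent.Lib.LyDC.Perm
import Cfsg.Agent.Lib.LyCent69.FixCount
import Cfsg.Agent.Lib.LyCent69.FixData
import Cfsg.Agent.Lib.LyCent69.InvCount

/-!
The centraliser of `a ^ 4`: at most `2772 * 14400` elements, from five double cosets.
-/

set_option autoImplicit false

namespace Cfsg.Agent.Lib.LyCent69

open Cfsg.Agent.Lib.LyDC

/-- `a ^ 4` in the group on the points -/
noncomputable def tBar : Hbar := rep.ev tWord

theorem tFix_spec {p : ℕ} (hp : p < 19530) (h : rep.pt tBar p = p) : p ∈ tFix := by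
  have h1 := forallB_iff.1 fixListed_all (p / 1953) (by
    have hlt : p / 1953 < 10 := by omega
    generalize p / 1953 = b at hlt
    interval_cases b <;> simp)
  have h2 := rangeB_spec h1 p (by show p / 1953 * 1953 ≤ p; omega)
    (by show p < p / 1953 * 1953 + 1953; omega)
  rw [rep.go_eq _ p hp, show rep.pt (rep.ev tWord) p = p from h, Nat.beq_refl] at h2
  exact memN_iff.1 h2

theorem card_tFix : Nat.card {p : Fin 19530 // (p : ℕ) ∈ tFix} ≤ 66 := by
  classical
  have h := Nat.card_le_card_of_injective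
    (fun p : {p : Fin 19530 // (p : ℕ) ∈ tFix} =>
      (⟨(p.1 : ℕ), List.mem_toFinset.2 p.2⟩ : tFix.toFinset))
    (fun a b hab => Subtype.ext (Fin.ext (congrArg Subtype.val hab :)))
  rw [Nat.card_eq_fintype_card (α := tFix.toFinset), Fintype.card_coe] at h
  exact (h.trans (List.toFinset_card_le _)).trans_eq tFix_len

variable {G : Type*} [Group G] [Finite G] (phi : Hbar →* G) (hphi : Function.Injective phi)

include hphi

theorem card_comap_eq {K : Subgroup G} (hK : K ≤ phi.range) :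
    Nat.card (K.comap phi) = Nat.card K := by
  refine Nat.card_congr (Equiv.ofBijective
    (fun x : K.comap phi => (⟨phi x, x.2⟩ : K)) ⟨fun a b h => ?_, fun y => ?_⟩)
  · exact Subtype.ext (hphi (congrArg Subtype.val h :))
  · obtain ⟨x, hx⟩ := hK y.2
    exact ⟨⟨x, show phi x ∈ K by rw [hx]; exact y.2⟩, Subtype.ext hx⟩

theorem card_sq_comap {K : Subgroup G} (hK : K ≤ phi.range) :
    Nat.card {x : K // x * x = 1} ≤ Nat.card {x : K.comap phi // x * x = 1} := by
  classical
  have hx : ∀ x : K, ∃ y : K.comap phi, phi y = x := fun x => by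
    obtain ⟨y, hy⟩ := hK x.2
    exact ⟨⟨y, show phi y ∈ K by rw [hy]; exact x.2⟩, hy⟩
  choose g hg using hx
  refine Nat.card_le_card_of_injective (fun x : {x : K // x * x = 1} =>
    (⟨g x.1, Subtype.ext (hphi (by
      show phi ((g x.1 : Hbar) * g x.1) = phi 1
      rw [map_mul, hg, map_one]
      exact (congrArg Subtype.val x.2 :)))⟩ : {x : K.comap phi // x * x = 1})) ?_
  intro a b hab
  have h := congrArg (fun z : {x : K.comap phi // x * x = 1} => phi z.1) hab
  simp only [hg] at h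
  exact Subtype.ext (Subtype.ext h)

/-- the bound, from five double cosets of the image of `Hbar` -/
theorem card_centralizer_tBar_le (s : Fin 5 → G)
    (cover : ∀ g, ∃ j, ∃ h ∈ phi.range, ∃ k ∈ phi.range, g = h * s j * k)
    (hs0 : s 0 ∈ phi.range)
    (h1 : ∀ x : Hbar, rep.pt x 0 = 0 →
      phi x ∈ phi.range ⊓ phi.range.map (MulAut.conj (s 1)).toMonoidHom)
    (h1' : ∀ x : Hbar, phi x ∈ phi.range ⊓ phi.range.map (MulAut.conj (s 1)).toMonoidHom →
      rep.pt x 0 = 0)
    (g2 : ∀ w ∈ inv2G, phi (rep.ev w) ∈ phi.range ⊓ phi.range.map (MulAut.conj (s 2)).toMonoidHom)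
    (g3 : ∀ w ∈ inv3G, phi (rep.ev w) ∈ phi.range ⊓ phi.range.map (MulAut.conj (s 3)).toMonoidHom)
    (g4 : ∀ w ∈ inv4G, phi (rep.ev w) ∈ phi.range ⊓ phi.range.map (MulAut.conj (s 4)).toMonoidHom)
    (k2 : Nat.card ↥(phi.range ⊓ phi.range.map (MulAut.conj (s 2)).toMonoidHom) = 6048)
    (k3 : Nat.card ↥(phi.range ⊓ phi.range.map (MulAut.conj (s 3)).toMonoidHom) = 2880)
    (k4 : Nat.card ↥(phi.range ⊓ phi.range.map (MulAut.conj (s 4)).toMonoidHom) = 1008)
    (ht2 : tBar * tBar = 1) (ht1 : tBar ≠ 1)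
    (hX : Nat.card {x : Hbar // x * tBar = tBar * x} ≤ 14400) :
    Nat.card ↥(Subgroup.centralizer {phi tBar}) ≤ 39916800 := by
  set H := phi.range with hH
  set t := phi tBar with htdef
  have ht : t ∈ H := ⟨tBar, rfl⟩
  have T2 : t * t = 1 := by rw [htdef, ← map_mul, ht2, map_one]
  have T1 : t ≠ 1 := fun e => ht1 (hphi (e.trans (map_one phi).symm))
  have hX' : Nat.card (centIn H t) ≤ 14400 := by
    refine le_trans ?_ hX
    have hg : ∀ x : centIn H t, ∃ y : Hbar, phi y = x.1 := fun x => x.1.2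
    choose g hg using hg
    refine Nat.card_le_card_of_injective (fun x : centIn H t =>
      (⟨g x, hphi (by rw [map_mul, map_mul, hg x]; exact x.2)⟩ :
        {x : Hbar // x * tBar = tBar * x})) ?_
    intro a b hab
    have h := congrArg (fun z : {x : Hbar // x * tBar = tBar * x} => phi z.1) hab
    simp only [hg] at h
    exact Subtype.ext (Subtype.ext h)
  have small : ∀ (s₀ : G) (c m n : ℕ) (L : List (List ℕ)),
      Nat.card ↥(H ⊓ H.map (MulAut.conj s₀).toMonoidHom) = c → 0 < c →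
      (∀ w ∈ L, phi (rep.ev w) ∈ H ⊓ H.map (MulAut.conj s₀).toMonoidHom) →
      (∀ (K : Subgroup Hbar) [Finite K], (∀ w ∈ L, rep.ev w ∈ K) → Nat.card K ≤ c →
        Nat.card {x : K // x * x = 1} ≤ m + 1) →
      m * 14400 = n * c → Nat.card ↥(fixIn H t s₀) ≤ n := by
    intro s₀ c m n L hc hc0 hL hinv hn
    have hle : H ⊓ H.map (MulAut.conj s₀).toMonoidHom ≤ phi.range := inf_le_left
    have := card_fixIn_le_sq H t T2 T1 (s₀ := s₀) rfl (m := m)
      ((card_sq_comap phi hphi hle).trans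
        (hinv _ hL ((card_comap_eq phi hphi hle).trans hc).le))
    rw [hc] at this
    exact Nat.le_of_mul_le_mul_right ((this.trans (Nat.mul_le_mul_left m hX')).trans hn.le) hc0
  have f0 : Nat.card ↥(fixIn H t (s 0)) ≤ 1 := card_fixIn_one H t hs0
  have f1 : Nat.card ↥(fixIn H t (s 1)) ≤ 66 := by
    have hg : ∀ x : H, ∃ y : Hbar, phi y = x := fun x => x.2
    choose g hg using hg
    refine (card_fixIn_le_point H t (s₀ := s 1)
      (fun x : H => (⟨rep.pt (g x)⁻¹ 0, rep.pt_lt _ 0 (by norm_num)⟩ : Fin 19530))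
      {p | (p : ℕ) ∈ tFix} ?_ ?_).trans card_tFix
    · intro x hx
      have h0 := h1' ((g x)⁻¹ * tBar * g x) (by
        rw [map_mul, map_mul, map_inv, hg x]; exact hx)
      rw [rep.pt_mul, rep.pt_mul] at h0
      refine tFix_spec (rep.pt_lt _ 0 (by norm_num)) ?_
      have := rep.pt_inv h0
      show rep.pt tBar (rep.pt (g x)⁻¹ 0) = rep.pt (g x)⁻¹ 0
      exact this.symm
    · intro x x' hxx
      have e : rep.pt (g x)⁻¹ 0 = rep.pt (g x')⁻¹ 0 := congrArg Fin.val hxx
      have h0 : rep.pt ((g x)⁻¹ * g x') 0 = 0 := by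
        rw [rep.pt_mul, e, ← rep.pt_mul, inv_mul_cancel, rep.pt_one]
      have h := h1 _ h0
      rwa [map_mul, map_inv, hg x, hg x'] at h
  have f2 := small (s 2) 6048 63 150 inv2G k2 (by norm_num) g2
    (fun K _ hK hc => inv2_le rep K hK hc) (by norm_num)
  have f3 := small (s 3) 2880 211 1055 inv3G k3 (by norm_num) g3
    (fun K _ hK hc => inv3_le rep K hK hc) (by norm_num)
  have f4 := small (s 4) 1008 105 1500 inv4G k4 (by norm_num) g4
    (fun K _ hK hc => inv4_le rep K hK hc) (by norm_num)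
  have hsum : ∑ j, Nat.card ↥(fixIn H t (s j)) ≤ 2772 := by
    rw [Fin.sum_univ_five]; omega
  calc Nat.card ↥(Subgroup.centralizer {t})
      ≤ Nat.card {q : G ⧸ H // t • q = q} * Nat.card (centIn H t) :=
        card_centralizer_le H t ht
    _ ≤ 2772 * 14400 := Nat.mul_le_mul ((card_fixed_le H t s ht cover).trans hsum) hX'
    _ = 39916800 := by norm_num

end Cfsg.Agent.Lib.LyCent69
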