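import Cfsg.Prelude.Def_SporadicB
import Cfsg.Agent.Lib.BoundedPresentation.Carmichael

/-!
An involution centralizer of order at most twice the order of the alternating group of degree eleven which contains
nine Carmichael three cycles modulo the involution, not all of whose relations lift, is a non-split double cover.
-/

set_option autoImplicit false

namespace Cfsg.Agent.Lib.LyCent69

open Cfsg.Agent.Lib.BoundedPresentation

theorem card_alt_eleven : 2 * Nat.card (alternatingGroup (Fin 9 ⊕ Fin 2)) = 39916800 := by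
  haveI : Nontrivial (Fin 9 ⊕ Fin 2) := ⟨Sum.inr 0, Sum.inr 1, by simp⟩
  rw [two_mul_nat_card_alternatingGroup, Nat.card_perm]
  simp [Nat.factorial]

/-- The criterion. -/
theorem double_cover_of_cycles {G : Type} [Group G] (t : G) (ht : orderOf t = 2)
    [Finite (Subgroup.centralizer ({t} : Set G))]
    (x : Fin 9 → G) (hx : ∀ i, x i ∈ Subgroup.centralizer ({t} : Set G))
    (h3 : ∀ i, x i ^ 3 = 1)
    (hp : ∀ i j, i ≠ j → (x i * x j) ^ 2 = 1 ∨ (x i * x j) ^ 2 = t)
    {a : Fin 9} (ha : x a ≠ 1)
    {b c : Fin 9} (hbc : (x b * x c) ^ 2 = t)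
    (hle : Nat.card (Subgroup.centralizer ({t} : Set G)) ≤ 39916800) :
    Nat.card (Subgroup.centralizer ({t} : Set G)) = 39916800 ∧
      Cfsg.IsNonsplitDoubleCover (Subgroup.centralizer ({t} : Set G)) (alternatingGroup (Fin 11)) := by
  classical
  set C := Subgroup.centralizer ({t} : Set G) with hC
  have htC : t ∈ C := Subgroup.mem_centralizer_iff.2 fun y hy => by rw [Set.mem_singleton_iff.1 hy]
  set τ : C := ⟨t, htC⟩ with hτ
  have hτ1 : τ ≠ 1 := fun h => by
    have : t = 1 := congrArg Subtype.val h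
    rw [this, orderOf_one] at ht
    omega
  have hτord : orderOf τ = 2 := by rw [← Subgroup.orderOf_coe]; exact ht
  have hτc : τ ∈ Subgroup.center C := Subgroup.mem_center_iff.2 fun g => Subtype.ext
    ((Subgroup.mem_centralizer_iff.1 g.2 t rfl).symm)
  set Z : Subgroup C := Subgroup.zpowers τ with hZ
  haveI hZn : Z.Normal := ⟨fun n hn g => by
    have hc : n ∈ Subgroup.center C := (Subgroup.zpowers_le.2 hτc) hn
    rw [Subgroup.mem_center_iff.1 hc g, mul_inv_cancel_right]; exact hn⟩
  have hZcard : Nat.card Z = 2 := by rw [Nat.card_zpowers, hτord]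
  set X : Fin 9 → C := fun i => ⟨x i, hx i⟩ with hX
  have hX3 : ∀ i, X i ^ 3 = 1 := fun i => Subtype.ext (by simpa [hX] using h3 i)
  have hcarm : Carm (fun i => QuotientGroup.mk' Z (X i)) := by
    refine ⟨fun i => by rw [← map_pow, hX3, map_one], fun i j hij => ?_⟩
    rw [← map_mul, ← map_pow, QuotientGroup.mk'_apply, QuotientGroup.eq_one_iff]
    rcases hp i j hij with h | h
    · rw [show (X i * X j) ^ 2 = 1 from Subtype.ext (by simpa [hX] using h)]; exact one_mem _
    · rw [show (X i * X j) ^ 2 = τ from Subtype.ext (by simpa [hX, hτ] using h)]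
      exact Subgroup.mem_zpowers τ
  obtain ⟨φ, hφ⟩ := exists_hom _ hcarm
  haveI : IsSimpleGroup (alternatingGroup (Fin 9 ⊕ Fin 2)) :=
    alternatingGroup.isSimpleGroup (by simp)
  have hne : X a ∉ Z := fun h => by
    have hdvd : orderOf (X a) ∣ 2 := by rw [← hZcard]; exact Subgroup.orderOf_dvd_natCard Z h
    have hdvd3 : orderOf (X a) ∣ 3 := orderOf_dvd_of_pow_eq_one (hX3 a)
    have : orderOf (X a) = 1 := Nat.dvd_one.1 (Nat.dvd_gcd hdvd hdvd3)
    rw [orderOf_eq_one_iff] at this
    exact ha (congrArg Subtype.val this)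
  have hker : φ.ker = ⊥ := by
    rcases IsSimpleGroup.eq_bot_or_eq_top_of_normal φ.ker inferInstance with h | h
    · exact h
    · exfalso
      have : φ (cyc a) = 1 := by rw [← MonoidHom.mem_ker, h]; trivial
      rw [hφ, QuotientGroup.mk'_apply, QuotientGroup.eq_one_iff] at this
      exact hne this
  have hinj : Function.Injective φ := (MonoidHom.ker_eq_bot_iff φ).1 hker
  have hge : Nat.card (alternatingGroup (Fin 9 ⊕ Fin 2)) ≤ Nat.card (C ⧸ Z) :=
    Nat.card_le_card_of_injective φ hinj
  have hsplit := Subgroup.card_eq_card_quotient_mul_card_subgroup Z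
  rw [hZcard] at hsplit
  have h11 := card_alt_eleven
  have hCcard : Nat.card C = 39916800 := by omega
  have hbij : Function.Bijective φ :=
    (Nat.bijective_iff_injective_and_card φ).2 ⟨hinj, by simp only [Alt2] at *; omega⟩
  set e : (C ⧸ Z) ≃* alternatingGroup (Fin 9 ⊕ Fin 2) := (MulEquiv.ofBijective φ hbij).symm with he
  have hcen : Subgroup.center C = Z := by
    refine le_antisymm (fun g hg => ?_) (Subgroup.zpowers_le.2 hτc)
    have hmem : e (QuotientGroup.mk' Z g) ∈ Subgroup.center (alternatingGroup (Fin 9 ⊕ Fin 2)) := by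
      rw [Subgroup.mem_center_iff]
      intro y
      obtain ⟨w, hw⟩ := QuotientGroup.mk'_surjective Z (e.symm y)
      have hy : y = e (QuotientGroup.mk' Z w) := by rw [hw, e.apply_symm_apply]
      rw [hy, ← map_mul, ← map_mul, ← map_mul, ← map_mul, Subgroup.mem_center_iff.1 hg w]
    rw [alternatingGroup.center_eq_bot (by simp), Subgroup.mem_bot, e.map_eq_one_iff,
      QuotientGroup.mk'_apply, QuotientGroup.eq_one_iff] at hmem
    exact hmem
  refine ⟨hCcard, by rw [hcen, hZcard],
    ⟨((QuotientGroup.quotientMulEquivOfEq hcen).trans e).trans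
      (Equiv.altCongrHom finSumFinEquiv)⟩, fun L hL => ?_⟩
  rw [hcen] at hL
  have hidx : L.index = 2 := by rw [hL.index_eq_card, hZcard]
  have hxL : ∀ i, X i ∈ L := fun i => by
    have h1 : X i = (X i ^ 2) ^ 2 := by
      rw [← pow_mul, show 2 * 2 = 3 + 1 from rfl, pow_succ, hX3, one_mul]
    rw [h1]
    exact L.pow_mem (Subgroup.sq_mem_of_index_two hidx _) 2
  have hτL : τ ∈ L := by
    rw [show τ = (X b * X c) ^ 2 from Subtype.ext (by simpa [hX, hτ] using hbc.symm)]
    exact L.pow_mem (L.mul_mem (hxL b) (hxL c)) 2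
  exact hτ1 (Subgroup.disjoint_def.1 hL.disjoint (Subgroup.mem_zpowers τ) hτL)

end Cfsg.Agent.Lib.LyCent69
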