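import Cfsg.Agent.Lib.LyCent69.Data
import Cfsg.Agent.Lib.LyCent69.DoubleCover

/-!
The relations of the nine cycles in the presented Lyons group, given that the representation is faithful, and the
resulting recognition of the involution centralizer from an upper bound on its order.
-/

set_option autoImplicit false

namespace Cfsg.Agent.Lib.LyCent69

open Cfsg.Agent.Lib.LyMat14

/-- the involution -/
def tInv : Cfsg.Spor.Ly := lyOf .a ^ 4

/-- the nine cycles -/
def cycElt (k : Fin 9) : Cfsg.Spor.Ly := preW (cycWord k)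

theorem cyc_good : gensGood 111 cycAll = true := by decide +kernel

theorem cyc_prefix {w : List ℕ} (h : (w.all fun k => Nat.blt k 10) = true) :
    wmat 111 cycAll w = (rho (preW w) : Matrix (Fin 111) (Fin 111) (ZMod 5)) := by
  rw [rho_preW h, coe_wunit ly_good (show wordGood lyGens w = true from h)]
  unfold wmat
  congr 1
  refine List.map_congr_left fun k hk => ?_
  have hlen : lyGens.length = 10 := rfl
  have hk' : k < lyGens.length := by
    rw [hlen]; simpa [Nat.blt_eq] using List.all_eq_true.1 h k hk
  rw [gen, gen, cycAll, List.getD_append _ _ _ _ hk']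

theorem cyc_mat (k : Fin 9) :
    wmat 111 cycAll [10 + (k : ℕ)] = (rho (cycElt k) : Matrix (Fin 111) (Fin 111) (ZMod 5)) := by
  have h : ∀ k : Fin 9, wordEq 111 cycAll (cycWord k) [10 + (k : ℕ)] = true := by decide +kernel
  have hb : ∀ k : Fin 9, ((cycWord k).all fun m => Nat.blt m 10) = true := by decide +kernel
  rw [← wmat_eq (by norm_num) cyc_good (h k), cyc_prefix (hb k)]
  rfl

theorem wmat_cons (g : List (List ℕ)) (k : ℕ) (w : List ℕ) :
    wmat 111 g (k :: w) = wmat 111 g [k] * wmat 111 g w := by
  simp [wmat]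

theorem wmat_app (g : List (List ℕ)) (v w : List ℕ) :
    wmat 111 g (v ++ w) = wmat 111 g v * wmat 111 g w := by
  simp [wmat]

theorem wmat_nil (g : List (List ℕ)) : wmat 111 g [] = 1 := by simp [wmat]

theorem preW_four : preW [0, 0, 0, 0] = tInv := by
  simp [preW, preLetter, tInv, pow_succ, mul_assoc]

theorem t_mat : wmat 111 cycAll [0, 0, 0, 0] = (rho tInv : Matrix (Fin 111) (Fin 111) (ZMod 5)) := by
  rw [cyc_prefix (by decide), preW_four]

theorem orderOf_tInv (hinj : Function.Injective rho) : orderOf tInv = 2 := by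
  refine orderOf_eq_prime ?_ ?_
  · refine hinj (Units.ext ?_)
    have h := wmat_eq (by norm_num) cyc_good
      (show wordEq 111 cycAll ([0, 0, 0, 0] ++ [0, 0, 0, 0]) [] = true by decide +kernel)
    rw [wmat_app, wmat_nil, t_mat, ← Units.val_mul, ← map_mul, ← pow_two] at h
    rw [map_one, Units.val_one]
    exact h
  · intro e
    have h := wmat_ne (by norm_num) cyc_good
      (show wordNe 111 cycAll [0, 0, 0, 0] [] = true by decide +kernel)
    rw [t_mat, wmat_nil, e, map_one, Units.val_one] at h
    exact h rfl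

theorem cycElt_commute (hinj : Function.Injective rho) (k : Fin 9) :
    tInv * cycElt k = cycElt k * tInv := by
  have h : ∀ k : Fin 9,
      wordEq 111 cycAll ([0, 0, 0, 0] ++ [10 + (k : ℕ)]) ([10 + (k : ℕ)] ++ [0, 0, 0, 0]) = true := by
    decide +kernel
  have h' := wmat_eq (by norm_num) cyc_good (h k)
  rw [wmat_app, wmat_app, t_mat, cyc_mat, ← Units.val_mul, ← Units.val_mul, ← map_mul, ← map_mul] at h'
  exact hinj (Units.ext h')

theorem cycElt_cube (hinj : Function.Injective rho) (k : Fin 9) : cycElt k ^ 3 = 1 := by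
  have h : ∀ k : Fin 9,
      wordEq 111 cycAll [10 + (k : ℕ), 10 + (k : ℕ), 10 + (k : ℕ)] [] = true := by decide +kernel
  have h' := wmat_eq (by norm_num) cyc_good (h k)
  rw [wmat_cons, wmat_cons _ _ [_], cyc_mat, wmat_nil, ← Units.val_mul, ← Units.val_mul, ← map_mul,
    ← map_mul] at h'
  refine hinj (Units.ext ?_)
  rw [map_one, Units.val_one, pow_succ', pow_two]
  exact h'

theorem cycElt_pair (hinj : Function.Injective rho) (i j : Fin 9) (hij : i ≠ j) :
    (cycElt i * cycElt j) ^ 2 = tInv := by
  have h : ∀ i j : Fin 9, i ≠ j →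
      wordEq 111 cycAll ([10 + (i : ℕ), 10 + (j : ℕ)] ++ [10 + (i : ℕ), 10 + (j : ℕ)]) [0, 0, 0, 0] = true := by
    decide +kernel
  have h' := wmat_eq (by norm_num) cyc_good (h i j hij)
  rw [wmat_app, wmat_cons, cyc_mat, cyc_mat, t_mat, ← Units.val_mul, ← Units.val_mul, ← map_mul, ← map_mul,
    ← pow_two] at h'
  exact hinj (Units.ext h')

theorem cycElt_zero_ne_one : cycElt 0 ≠ 1 := by
  intro e
  have h := wmat_ne (by norm_num) cyc_good
    (show wordNe 111 cycAll [10 + ((0 : Fin 9) : ℕ)] [] = true by decide +kernel)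
  rw [cyc_mat, wmat_nil, e, map_one, Units.val_one] at h
  exact h rfl

/-- The involution centralizer is a non-split double cover of the alternating group of degree eleven. -/
theorem double_cover (hinj : Function.Injective rho)
    [Finite (Subgroup.centralizer ({tInv} : Set Cfsg.Spor.Ly))]
    (hle : Nat.card (Subgroup.centralizer ({tInv} : Set Cfsg.Spor.Ly)) ≤ 39916800) :
    Nat.card (Subgroup.centralizer ({tInv} : Set Cfsg.Spor.Ly)) = 39916800 ∧
      Cfsg.IsNonsplitDoubleCover (Subgroup.centralizer ({tInv} : Set Cfsg.Spor.Ly))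
        (alternatingGroup (Fin 11)) :=
  double_cover_of_cycles tInv (orderOf_tInv hinj) cycElt
    (fun i => Subgroup.mem_centralizer_iff.2 fun y hy => by
      rw [Set.mem_singleton_iff.1 hy]; exact cycElt_commute hinj i)
    (cycElt_cube hinj) (fun i j hij => Or.inr (cycElt_pair hinj i j hij)) cycElt_zero_ne_one
    (cycElt_pair hinj 0 1 (by decide)) hle

end Cfsg.Agent.Lib.LyCent69
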