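import Mathlib
import Cfsg.Agent.Lib.LyOut55.FromCtx
import Cfsg.Agent.Lib.LyDC.Main
import Cfsg.Agent.Lib.LyCent69.Bound
import Cfsg.Agent.Lib.G2Inv.Main

/-!
The centraliser bound from the context of the coset derivation and the order of the group.
-/

set_option autoImplicit false

namespace Cfsg.Agent.Lib.LyCent69

open Cfsg.Agent.Lib.LyDC

theorem tBar_sq_words : tabs.same base (tWord ++ tWord) [] = true := by decide +kernel

theorem tBar_ne_words : tabs.same base tWord [] = false := by decide +kernel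

theorem tBar_mul_self (hI : BaseInj) : tBar * tBar = 1 := by
  rw [tBar, ← rep.ev_append, rep.eq_of_same base_lt hI tBar_sq_words, rep.ev_nil]

theorem tBar_ne_one (hI : BaseInj) : tBar ≠ 1 := by
  intro h
  have h' : rep.ev tWord = rep.ev [] := h.trans rep.ev_nil.symm
  rw [← rep.same_iff base_lt hI, tBar_ne_words] at h'
  exact Bool.noConfusion h'

/-- the centraliser in a copy of the group of type G2 over five elements -/
theorem card_cent_tBar {K : Type} [Field K] [Fintype K] (hK : Fintype.card K = 5)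
    (e : Hbar ≃* Cfsg.Lie.chevG2.group K) (hI : BaseInj) :
    Nat.card {x : Hbar // x * tBar = tBar * x} ≤ 14400 := by
  have hF : Odd (Fintype.card K) := by rw [hK]; decide
  have ho : orderOf (e tBar) = 2 := by
    rw [MulEquiv.orderOf_eq]
    exact orderOf_eq_prime (by rw [pow_two]; exact tBar_mul_self hI) (tBar_ne_one hI)
  have h := (G2Inv.centralizer_structure hF (e tBar) ho).1
  rw [hK] at h
  refine (Nat.card_congr ?_).trans_le (h.trans_le (by norm_num))
  exact e.toEquiv.subtypeEquiv (fun x => by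
    show x * tBar = tBar * x ↔ e x ∈ Subgroup.centralizer {e tBar}
    rw [Subgroup.mem_centralizer_singleton_iff, ← map_mul, ← map_mul, e.injective.eq_iff])

variable {G : Type} [Group G] [Finite G]

theorem mem_S_iff (C : Ctx G) (j : ℕ) (s : Hbar) :
    C.φ s ∈ C.φ.range ⊓ C.φ.range.map (MulAut.conj (C.W j)⁻¹).toMonoidHom ↔ s ∈ C.S j := by
  rw [Subgroup.mem_inf, mem_map_conj, inv_inv]
  exact ⟨fun h => h.2, fun h => ⟨⟨s, rfl⟩, h⟩⟩

theorem card_inf_eq (C : Ctx G) (hinj : Function.Injective C.φ) (j : ℕ) :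
    Nat.card ↥(C.φ.range ⊓ C.φ.range.map (MulAut.conj (C.W j)⁻¹).toMonoidHom) =
      Nat.card (C.S j) := by
  rw [← card_comap_eq C.φ hinj inf_le_left]
  congr 2
  ext s
  exact mem_S_iff C j s

/-- the bound -/
theorem card_centralizer_ctx (C : Ctx G) (hinj : Function.Injective C.φ)
    (hc : Nat.card Hbar = 5859000000)
    (hgen : Subgroup.closure ((C.φ.range : Set G) ∪ {C.z}) = ⊤)
    (hG : 51765179004000000 ≤ Nat.card G)
    (hX : Nat.card {x : Hbar // x * tBar = tBar * x} ≤ 14400) :
    Nat.card ↥(Subgroup.centralizer {C.φ tBar}) ≤ 39916800 := by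
  have hS := Cfsg.LyOut55.stab_card_eq C hc hgen hG
  have hS1 : C.S 1 = rep.fixList [0] := by
    rw [← (fix_zero_eq C.inj hc.le).1]
    refine (Subgroup.eq_of_le_of_card_ge C.img_le_S ?_).symm
    rw [hS 1 (by norm_num)]
    exact img_card C.inj
  have hgens : ∀ (j : ℕ) (L : List (List ℕ)), (∀ w ∈ L, rep.ev w ∈ C.S j) →
      ∀ w ∈ L, C.φ (rep.ev w) ∈
        C.φ.range ⊓ C.φ.range.map (MulAut.conj (C.W j)⁻¹).toMonoidHom :=
    fun j L h w hw => (mem_S_iff C j _).2 (h w hw)
  refine card_centralizer_tBar_le C.φ hinj (fun j : Fin 5 => (C.W j)⁻¹) ?_ ?_ ?_ ?_ ?_ ?_ ?_ ?_ ?_ ?_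
    (tBar_mul_self C.inj) (tBar_ne_one C.inj) hX
  · intro g
    obtain ⟨j, hj, h, k, e⟩ := C.cover_left hc.le hgen g
    exact ⟨⟨j, hj⟩, _, ⟨h, rfl⟩, _, ⟨k, rfl⟩, e⟩
  · show (C.W 0)⁻¹ ∈ C.φ.range
    simp [Ctx.W]
  · intro x hx
    refine (mem_S_iff C 1 x).2 ?_
    rw [hS1]
    intro p hp
    rw [List.mem_singleton.1 hp]
    exact hx
  · intro x hx
    have h := (mem_S_iff C 1 x).1 hx
    rw [hS1] at h
    exact h 0 (List.mem_singleton_self 0)
  · refine hgens 2 inv2G fun w hw => ?_
    simp only [inv2G, List.mem_append] at hw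
    rcases hw with (hw | hw) | hw
    · exact C.gens_mem lev2_0_gens w hw
    · exact C.gens_mem lev2_1_gens w hw
    · exact C.gens_mem lev2_2_gens w hw
  · refine hgens 3 inv3G fun w hw => ?_
    simp only [inv3G, List.mem_append] at hw
    rcases hw with (hw | hw) | hw
    · exact C.gens_mem lev3_0_gens w hw
    · exact C.gens_mem lev3_1_gens w hw
    · exact C.gens_mem lev3_2_gens w hw
  · refine hgens 4 inv4G fun w hw => ?_
    simp only [inv4G, List.mem_append] at hw
    rcases hw with hw | hw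
    · exact C.gens_mem lev4_0_gens w hw
    · exact C.gens_mem lev4_1_gens w hw
  · exact (card_inf_eq C hinj 2).trans (hS 2 (by norm_num))
  · exact (card_inf_eq C hinj 3).trans (hS 3 (by norm_num))
  · exact (card_inf_eq C hinj 4).trans (hS 4 (by norm_num))

end Cfsg.Agent.Lib.LyCent69
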