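import Cfsg.Agent.Lib.LyDC.DerivK

/-!
Checker for a list of all elements of a small subgroup of the group of the 19530 points: an entry
holds the images of the base (64 bits), a mark, and the numbers of the generators in a product.
-/

namespace Cfsg.Agent.Lib.LyCent69

open Cfsg.Agent.Lib.LyDC

/-- four points in one number -/
noncomputable def packK (l : List Nat) : Nat :=
  List.rec (motive := fun _ => Nat) 0 (fun p _ ih => Nat.add p (Nat.mul 65536 ih)) l

/-- the images of the base -/
noncomputable def keyOf (e : Nat) : Nat := Nat.land e 18446744073709551615

/-- the mark -/
noncomputable def markOf (e : Nat) : Bool := Nat.beq (Nat.land (Nat.shiftRight e 64) 1) 1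

/-- the word of an entry -/
noncomputable def wordOf (G : List (List Nat)) (e : Nat) : List Nat :=
  catW G (decodeC 64 (Nat.shiftRight e 65))

/-- the square of the word fixes the base -/
noncomputable def sqFix (u : List Nat) : Bool :=
  forallB (fun p => Nat.beq (tabs.go u (tabs.go u p)) p) base

/-- the key is right and an element without mark has a square different from one -/
noncomputable def elOK (G : List (List Nat)) (e : Nat) : Bool :=
  (fun u => band (Nat.beq (packK (tabs.mov u base)) (keyOf e))
    (Bool.rec (motive := fun _ => Bool) (bnot (sqFix u)) true (markOf e))) (wordOf G e)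

/-- the keys increase -/
noncomputable def incK (l : List Nat) : Nat → Bool :=
  List.rec (motive := fun _ => Nat → Bool) (fun _ => true)
    (fun e _ ih m => hold (keyOf e) fun k => band (Nat.ble m k) (ih (Nat.succ k))) l

/-- number of marks -/
noncomputable def nMark (l : List Nat) : Nat :=
  List.rec (motive := fun _ => Nat) 0
    (fun e _ ih => Bool.rec (motive := fun _ => Nat) ih (Nat.succ ih) (markOf e)) l

end Cfsg.Agent.Lib.LyCent69
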