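import Mathlib
import Cfsg.Agent.Lib.LyDC.Sound
import Cfsg.Agent.Lib.LyCent69.InvKernel

/-!
Soundness: the number of solutions of `x * x = 1` in a subgroup with a checked list of elements.
-/

set_option autoImplicit false

namespace Cfsg.Agent.Lib.LyCent69

open Cfsg.Agent.Lib.LyDC

theorem incK_spec : ∀ {l : List ℕ} {m : ℕ}, incK l m = true →
    (∀ e ∈ l, m ≤ keyOf e) ∧ (l.map keyOf).Nodup
  | [], _, _ => ⟨by simp, List.nodup_nil⟩
  | e :: l, m, h => by
    have h' : hold (keyOf e) (fun k => band (Nat.ble m k) (incK l (Nat.succ k))) = true := h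
    rw [hold_eq, band_eq, Bool.and_eq_true, bleN_iff] at h'
    obtain ⟨h1, h2⟩ := incK_spec h'.2
    refine ⟨fun x hx => ?_, List.nodup_cons.2 ⟨fun hmem => ?_, h2⟩⟩
    · rcases List.mem_cons.1 hx with rfl | hx
      · exact h'.1
      · have := h1 x hx; omega
    · obtain ⟨x, hx, hxe⟩ := List.mem_map.1 hmem
      have := h1 x hx; omega

theorem nMark_eq : ∀ l : List ℕ, nMark l = (l.filter markOf).length
  | [] => rfl
  | e :: l => by
    show Bool.rec (motive := fun _ => ℕ) (nMark l) (Nat.succ (nMark l)) (markOf e) = _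
    rcases h : markOf e with _ | _ <;> simp [List.filter_cons, h, nMark_eq l]

variable {Q : Type*} [Group Q] (R : Rep tabs Q)

theorem ev_catW_mem {G : List (List ℕ)} {K : Subgroup Q} (hG : ∀ g ∈ G, R.ev g ∈ K) :
    ∀ a : List ℕ, R.ev (catW G a) ∈ K
  | [] => by show R.ev [] ∈ K; rw [R.ev_nil]; exact one_mem K
  | x :: a => by
    show R.ev (nth [] G x ++ catW G a) ∈ K
    rw [R.ev_append]
    refine mul_mem ?_ (ev_catW_mem hG a)
    rw [nth_eq]
    rcases lt_or_ge x G.length with hx | hx
    · rw [List.getD_eq_getElem _ _ hx]; exact hG _ (List.getElem_mem hx)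
    · rw [List.getD_eq_default _ _ hx, R.ev_nil]; exact one_mem K

/-- the subgroup has at most as many solutions of `x * x = 1` as the list has marks -/
theorem card_sq_one_le {G : List (List ℕ)} (K : Subgroup Q) [Finite K]
    (hG : ∀ g ∈ G, R.ev g ∈ K) (hb : ∀ b ∈ base, b < 19530) {l : List ℕ}
    (hok : ∀ e ∈ l, elOK G e = true) (hinc : incK l 0 = true)
    (hK : Nat.card K ≤ l.length) :
    Nat.card {x : K // x * x = 1} ≤ nMark l := by
  classical
  let key : K → ℕ := fun x => packK (R.imgs (x : Q) base)
  let f : Fin l.length → K := fun i => ⟨R.ev (wordOf G l[i]), ev_catW_mem R hG _⟩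
  have hf : ∀ i : Fin l.length, key (f i) = keyOf l[i] ∧
      (markOf l[i] = true ∨ sqFix (wordOf G l[i]) = false) := by
    intro i
    have h := hok l[i] (List.getElem_mem i.2)
    simp only [elOK, band_eq, Bool.and_eq_true, beqN_iff] at h
    refine ⟨?_, ?_⟩
    · show packK (R.imgs (R.ev (wordOf G l[i])) base) = _
      rw [← R.mov_base hb]; exact h.1
    · rcases hm : markOf l[i] with _ | _
      · right
        have h2 := h.2
        rw [hm] at h2
        revert h2
        cases sqFix (wordOf G l[i]) <;> simp [bnot]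
      · left; rfl
  have hinj : Function.Injective f := by
    intro i j hij
    have h1 : keyOf l[i] = keyOf l[j] := by rw [← (hf i).1, ← (hf j).1, hij]
    have hnd := (incK_spec hinc).2
    exact Fin.ext ((hnd.getElem_inj_iff (hi := by simp) (hj := by simp)).1 (by simpa using h1))
  have hbij : Function.Bijective f := by
    refine hinj.bijective_of_nat_card_le ?_
    simpa using hK
  let e := Equiv.ofBijective f hbij
  have hmark : ∀ x : K, x * x = 1 → markOf l[e.symm x] = true := by
    intro x hx
    rcases (hf (e.symm x)).2 with h | h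
    · exact h
    · exfalso
      have hx' : R.ev (wordOf G l[e.symm x]) * R.ev (wordOf G l[e.symm x]) = 1 := by
        have : f (e.symm x) = x := e.apply_symm_apply x
        have h2 := congrArg (Subtype.val : K → Q) hx
        rw [← this] at h2
        exact h2
      have : sqFix (wordOf G l[e.symm x]) = true := by
        refine forallB_iff.2 fun p hp => beqN_iff.2 ?_
        have hp' := hb p hp
        rw [R.go_eq _ p hp', R.go_eq _ _ (R.pt_lt _ _ hp'), ← R.pt_mul, hx', R.pt_one]
      exact Bool.noConfusion (this.symm.trans h)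
  have hinj' : Function.Injective (fun x : {x : K // x * x = 1} =>
      (⟨l[e.symm x.1], List.mem_filter.2 ⟨List.getElem_mem (e.symm x.1).2, hmark x.1 x.2⟩⟩ :
        {a : ℕ // a ∈ l.filter markOf})) := by
    intro x y hxy
    have h1 := congrArg (fun a : {a : ℕ // a ∈ l.filter markOf} => keyOf a.1) hxy
    simp only at h1
    have hnd := (incK_spec hinc).2
    have h2 : e.symm x.1 = e.symm y.1 :=
      Fin.ext ((hnd.getElem_inj_iff (hi := by simp) (hj := by simp)).1 (by simpa using h1))
    exact Subtype.ext (e.symm.injective h2)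
  rw [nMark_eq]
  haveI : Finite {a : ℕ // a ∈ l.filter markOf} := (l.filter markOf).finite_toSet.to_subtype
  refine (Nat.card_le_card_of_injective _ hinj').trans ?_
  rw [Nat.card_congr (Equiv.subtypeEquivRight (fun a => (List.mem_toFinset (a := a)
    (l := l.filter markOf)).symm)), Nat.card_eq_fintype_card, Fintype.card_coe]
  exact List.toFinset_card_le _

end Cfsg.Agent.Lib.LyCent69
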