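import Mathlib
import Cfsg.Agent.Lib.LyCent69.FromCtx
import Cfsg.Agent.Lib.LyCent69.Cycles
import Cfsg.Agent.Lib.LyMain.Ly
import Cfsg.Agent.Lib.LyH.Iso

/-!
In the presented Lyons group the centraliser of `a ^ 4` is a non-split double cover of the alternating
group of degree eleven.
-/

set_option autoImplicit false

namespace Cfsg.Agent.Lib.LyCent69

open Cfsg.Agent.Lib.LyMult97 (gg)

theorem hbar_iso_dc : Nonempty (LyDC.Hbar ≃* Cfsg.Lie.chevG2.group (ZMod 5)) := by
  obtain ⟨e⟩ := LyH.hbar_iso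
  exact ⟨(MulEquiv.subgroupCongr LyDC.Hbar_same).trans e⟩

theorem hbar_simple : IsSimpleGroup LyDC.Hbar :=
  let _ := LyH.isSimpleGroup_Hbar
  MulEquiv.isSimpleGroup (MulEquiv.subgroupCongr LyDC.Hbar_same)

theorem ly_isLy : Cfsg.IsLy Cfsg.Spor.Ly := LyMain.ly_isLy hbar_simple

theorem ly_finite : Finite Cfsg.Spor.Ly := LyMain.ly_finite

theorem rho_injective : Function.Injective LyMat14.rho := by
  have : IsSimpleGroup Cfsg.Spor.Ly := ly_isLy.1
  rcases (MonoidHom.normal_ker LyMat14.rho).eq_bot_or_eq_top with h | h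
  · exact (MonoidHom.ker_eq_bot_iff _).1 h
  · exact absurd (MonoidHom.mem_ker.1 (h ▸ Subgroup.mem_top (LyMat14.lyOf .a) :
      LyMat14.lyOf .a ∈ LyMat14.rho.ker)) LyMat14.rho_a_ne_one

theorem tInv_eq : tInv = LyMain.lyPhi tBar := by
  rw [tBar, LyMain.lyMaps.ev_eq, show LyDC.decode tWord = [0, 0, 0, 0] by decide +kernel]
  simp only [tInv, List.map_cons, List.map_nil, List.prod_cons, List.prod_nil, mul_one,
    LyDC.letterVal, List.getD_cons_zero, LyMain.gg_eq_lyOf, pow_succ, pow_zero, one_mul, mul_assoc]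

theorem ly_centralizer :
    orderOf tInv = 2 ∧ Cfsg.IsNonsplitDoubleCover
      (Subgroup.centralizer ({tInv} : Set Cfsg.Spor.Ly)) (alternatingGroup (Fin 11)) := by
  have := ly_finite
  have hinj := LyMain.lyPhi_injective hbar_simple
  obtain ⟨e⟩ := hbar_iso_dc
  have hle : Nat.card (Subgroup.centralizer ({tInv} : Set Cfsg.Spor.Ly)) ≤ 39916800 := by
    rw [tInv_eq]
    exact card_centralizer_ctx LyMain.lyCtx hinj LyDC.card_Hbar LyMain.lyCtx_gen
      ly_isLy.2.ge (card_cent_tBar (ZMod.card 5) e LyDC.baseInj)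
  exact ⟨orderOf_tInv rho_injective, (double_cover rho_injective hle).2⟩

end Cfsg.Agent.Lib.LyCent69
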