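import Mathlib
import Cfsg.Prelude.Def_SporadicB
import Cfsg.Prelude.Def_Sporadic
import Cfsg.Prelude.Def_Exceptional

/-!
A simple group with a subgroup of given index as a transitive permutation group.
-/

set_option autoImplicit false

namespace Cfsg.Agent.Lib.LyCent69

theorem nonsplit_transfer {K K' S : Type*} [Group K] [Group K'] [Group S] (e : K ≃* K')
    (h : Cfsg.IsNonsplitDoubleCover K S) : Cfsg.IsNonsplitDoubleCover K' S := by
  obtain ⟨h1, ⟨f⟩, h3⟩ := h
  have hmap : (Subgroup.center K).map e.toMonoidHom = Subgroup.center K' := by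
    ext y
    obtain ⟨x, rfl⟩ := e.surjective y
    rw [show e x = e.toMonoidHom x from rfl, Subgroup.mem_map_iff_mem e.injective,
      Subgroup.mem_center_iff, Subgroup.mem_center_iff]
    constructor
    · intro hx g
      obtain ⟨g, rfl⟩ := e.surjective g
      show e g * e x = e x * e g
      rw [← map_mul, ← map_mul, hx g]
    · intro hx g
      exact e.injective (by rw [map_mul, map_mul]; exact hx (e g))
  refine ⟨?_, ⟨((QuotientGroup.congr (Subgroup.center K) (Subgroup.center K') e hmap).symm).trans f⟩,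
    fun L hL => h3 (L.map e.symm.toMonoidHom) ?_⟩
  · rw [← hmap, Subgroup.card_map_of_injective (show Function.Injective e.toMonoidHom from e.injective)]
    exact h1
  · rw [Subgroup.isComplement'_def, Subgroup.isComplement_iff_existsUnique] at hL ⊢
    intro g
    obtain ⟨⟨⟨a, ha⟩, ⟨b, hb⟩⟩, hab, huniq⟩ := hL (e g)
    obtain ⟨a, ha', rfl⟩ : a ∈ (Subgroup.center K).map e.toMonoidHom := hmap ▸ ha
    refine ⟨(⟨a, ha'⟩, ⟨e.symm b, ⟨b, hb, rfl⟩⟩), e.injective ?_, ?_⟩
    · rw [map_mul, e.apply_symm_apply]; exact hab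
    · rintro ⟨⟨a', ha''⟩, ⟨b', b'', hb'', rfl⟩⟩ hq
      have := huniq (⟨e a', hmap ▸ ⟨a', ha'', rfl⟩⟩, ⟨b'', hb''⟩) (by
        show e a' * b'' = e g
        rw [← hq]; simp)
      simp only [Prod.mk.injEq, Subtype.mk.injEq] at this
      obtain ⟨e1, e2⟩ := this
      exact Prod.ext (Subtype.ext (e.injective e1)) (Subtype.ext (congrArg e.symm e2))

theorem isG2_transfer {A B : Type*} [Group A] [Group B] (e : A ≃* B) (h : Cfsg.IsG2 A) :
    Cfsg.IsG2 B := by
  obtain ⟨hs, q, hq, h3, hc⟩ := h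
  exact ⟨let _ := hs; e.symm.isSimpleGroup, q, hq, h3, (Nat.card_congr e.toEquiv).symm.trans hc⟩

theorem isLy_transfer {A B : Type*} [Group A] [Group B] (e : A ≃* B) (h : Cfsg.IsLy A) :
    Cfsg.IsLy B := by
  obtain ⟨hs, hc⟩ := h
  exact ⟨let _ := hs; e.symm.isSimpleGroup, (Nat.card_congr e.toEquiv).symm.trans hc⟩

theorem exists_perm_model {G : Type} [Group G] (hG : Cfsg.IsLy G) (P : Subgroup G) (n : ℕ)
    (hn : 0 < n) (hidx : P.index = n) (hn1 : 1 < n) (hP : Cfsg.IsG2 P) (t : G) (ht : orderOf t = 2)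
    {S : Type*} [Group S]
    (hC : Cfsg.IsNonsplitDoubleCover (Subgroup.centralizer ({t} : Set G)) S) :
    ∃ H : Subgroup (Equiv.Perm (Fin n)), Cfsg.IsLy H ∧ MulAction.IsPretransitive H (Fin n) ∧
      Cfsg.IsG2 (MulAction.stabilizer H (⟨0, hn⟩ : Fin n)) ∧
      ∃ t : H, orderOf t = 2 ∧
        Cfsg.IsNonsplitDoubleCover (Subgroup.centralizer ({t} : Set H)) S := by
  classical
  have : Finite G := Nat.finite_of_card_ne_zero (by rw [hG.2]; norm_num)
  let e₀ : G ⧸ P ≃ Fin n := Finite.equivFinOfCardEq hidx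
  let e : G ⧸ P ≃ Fin n := e₀.trans (Equiv.swap (e₀ ((1 : G) : G ⧸ P)) ⟨0, hn⟩)
  have he : e ((1 : G) : G ⧸ P) = ⟨0, hn⟩ := Equiv.swap_apply_left _ _
  let psi : G →* Equiv.Perm (Fin n) :=
    e.permCongrHom.toMonoidHom.comp (MulAction.toPermHom G (G ⧸ P))
  have hpsi : ∀ (g : G) (q : G ⧸ P), psi g (e q) = e (g • q) := fun g q => by
    show e (g • e.symm (e q)) = _
    rw [e.symm_apply_apply]
  have hinj : Function.Injective psi := by
    have : IsSimpleGroup G := hG.1
    rcases (MonoidHom.normal_ker psi).eq_bot_or_eq_top with h | h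
    · exact (MonoidHom.ker_eq_bot_iff _).1 h
    · exfalso
      have htop : P = ⊤ := by
        refine (Subgroup.eq_top_iff' P).2 fun g => ?_
        have hg : psi g = 1 := MonoidHom.mem_ker.1 (h ▸ Subgroup.mem_top g : g ∈ psi.ker)
        have h1 := hpsi g ((1 : G) : G ⧸ P)
        rw [hg, Equiv.Perm.one_apply] at h1
        have h2 : ((1 : G) : G ⧸ P) = ((g * 1 : G) : G ⧸ P) := e.injective h1
        simpa using QuotientGroup.eq.1 h2
      rw [htop, Subgroup.index_top] at hidx
      omega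
  let i : G ≃* psi.range := MonoidHom.ofInjective hinj
  have hi : ∀ g x, (i g) • x = psi g x := fun g x => rfl
  refine ⟨psi.range, isLy_transfer i hG, ⟨fun x y => ?_⟩, ?_, i t, ?_, ?_⟩
  · obtain ⟨q, rfl⟩ := e.surjective x
    obtain ⟨r, rfl⟩ := e.surjective y
    obtain ⟨g, rfl⟩ := MulAction.exists_smul_eq G q r
    exact ⟨i g, (hi g _).trans (hpsi g q)⟩
  · have hmem : ∀ g, i g ∈ MulAction.stabilizer psi.range (⟨0, hn⟩ : Fin n) ↔ g ∈ P := by
      intro g
      rw [MulAction.mem_stabilizer_iff, hi, ← he, hpsi, e.injective.eq_iff]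
      show ((g * 1 : G) : G ⧸ P) = ((1 : G) : G ⧸ P) ↔ g ∈ P
      rw [QuotientGroup.eq]
      simp
    have heq : P.map i.toMonoidHom = MulAction.stabilizer psi.range (⟨0, hn⟩ : Fin n) := by
      ext y
      obtain ⟨g, rfl⟩ := i.surjective y
      rw [hmem g]
      exact Subgroup.mem_map_iff_mem (show Function.Injective i.toMonoidHom from i.injective)
    rw [← heq]
    exact isG2_transfer (P.equivMapOfInjective i.toMonoidHom i.injective) hP
  · rw [MulEquiv.orderOf_eq]; exact ht
  · have heq : (Subgroup.centralizer ({t} : Set G)).map i.toMonoidHom =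
        Subgroup.centralizer {i t} := by
      ext y
      obtain ⟨g, rfl⟩ := i.surjective y
      rw [show i g = i.toMonoidHom g from rfl,
        Subgroup.mem_map_iff_mem (show Function.Injective i.toMonoidHom from i.injective),
        Subgroup.mem_centralizer_singleton_iff, Subgroup.mem_centralizer_singleton_iff]
      show _ ↔ i g * i t = i t * i g
      rw [← map_mul, ← map_mul, i.injective.eq_iff]
    rw [← heq]
    exact nonsplit_transfer ((Subgroup.centralizer ({t} : Set G)).equivMapOfInjective i.toMonoidHom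
      i.injective) hC

end Cfsg.Agent.Lib.LyCent69
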